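import Cfsg.Agent.Lib.MetanilpotentPrim.Averaging
import Cfsg.Agent.Lib.PGroup.Basic
import Mathlib

/-!
# Normal `p`-subgroups all of whose abelian `G`-normal subgroups are central

The group theory behind primitive characters of metanilpotent groups: `U = O_p(G)`, `Z = Z(G)` with
an injection of `Z` into `ℂˣ`; the action of `G` on `U / (U ∩ Z)`.
-/

set_option autoImplicit false
set_option linter.style.haveILetI false

namespace Cfsg.Agent.MetanilpotentPrim

open scoped commutatorElement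

universe u

variable {G : Type u} [Group G]

theorem commutator_mem_center_mul {x a b : G} (ha : ⁅x, a⁆ ∈ Subgroup.center G)
    (hb : ⁅x, b⁆ ∈ Subgroup.center G) : ⁅x, a * b⁆ = ⁅x, a⁆ * ⁅x, b⁆ := by
  have h : ⁅x, a * b⁆ = ⁅x, a⁆ * (a * ⁅x, b⁆ * a⁻¹) := by simp [commutatorElement_def, mul_assoc]
  rw [h, Subgroup.mem_center_iff.1 hb a, mul_inv_cancel_right]

theorem mul_commutator_mem_center {x y a : G} (hx : ⁅x, a⁆ ∈ Subgroup.center G)
    (hy : ⁅y, a⁆ ∈ Subgroup.center G) : ⁅x * y, a⁆ = ⁅x, a⁆ * ⁅y, a⁆ := by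
  have h : ⁅x * y, a⁆ = (x * ⁅y, a⁆ * x⁻¹) * ⁅x, a⁆ := by simp [commutatorElement_def, mul_assoc]
  rw [h, Subgroup.mem_center_iff.1 hy x, mul_inv_cancel_right]
  exact (Subgroup.mem_center_iff.1 hy _).symm

/-- The elements of `U` commuting with `S` modulo the centre. -/
def modCenter (U S : Subgroup G) : Subgroup G where
  carrier := {u | u ∈ U ∧ ∀ x ∈ S, ⁅x, u⁆ ∈ Subgroup.center G}
  one_mem' := ⟨U.one_mem, fun x _ => by rw [commutatorElement_one_right]; exact one_mem _⟩
  mul_mem' {a b} ha hb := ⟨U.mul_mem ha.1 hb.1, fun x hx => by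
    rw [commutator_mem_center_mul (ha.2 x hx) (hb.2 x hx)]
    exact mul_mem (ha.2 x hx) (hb.2 x hx)⟩
  inv_mem' {a} ha := ⟨U.inv_mem ha.1, fun x hx => by
    have h : ⁅x, a⁻¹⁆ = a⁻¹ * ⁅x, a⁆⁻¹ * a := by simp [commutatorElement_def, mul_assoc]
    rw [h, Subgroup.mem_center_iff.1 (inv_mem (ha.2 x hx)) a⁻¹, inv_mul_cancel_right]
    exact inv_mem (ha.2 x hx)⟩

theorem mem_modCenter {U S : Subgroup G} {u : G} :
    u ∈ modCenter U S ↔ u ∈ U ∧ ∀ x ∈ S, ⁅x, u⁆ ∈ Subgroup.center G := Iff.rfl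

instance modCenter_normal (U S : Subgroup G) [U.Normal] [S.Normal] : (modCenter U S).Normal :=
  ⟨fun u hu g => ⟨Subgroup.Normal.conj_mem inferInstance u hu.1 g, fun x hx => by
    have hx' : g⁻¹ * x * g ∈ S := by
      simpa using Subgroup.Normal.conj_mem (H := S) inferInstance x hx g⁻¹
    have h : ⁅x, g * u * g⁻¹⁆ = g * ⁅g⁻¹ * x * g, u⁆ * g⁻¹ := by
      simp [commutatorElement_def, mul_assoc]
    rw [h]
    exact Subgroup.Normal.conj_mem inferInstance _ (hu.2 _ hx') g⟩⟩

/-- The elements commuting with `v` modulo the centre form a subgroup. -/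
theorem mem_of_commutator_mem_center {v : G} {T : Set G}
    (hT : ∀ x ∈ T, ⁅x, v⁆ ∈ Subgroup.center G) :
    ∀ x ∈ Subgroup.closure T, ⁅x, v⁆ ∈ Subgroup.center G := by
  intro x hx
  induction hx using Subgroup.closure_induction with
  | mem x hx => exact hT x hx
  | one => rw [commutatorElement_one_left]; exact one_mem _
  | mul x y _ _ hx hy => rw [mul_commutator_mem_center hx hy]; exact mul_mem hx hy
  | inv x _ hx =>
    have h : ⁅x⁻¹, v⁆ = x⁻¹ * ⁅x, v⁆⁻¹ * x := by simp [commutatorElement_def, mul_assoc]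
    rw [h, Subgroup.mem_center_iff.1 (inv_mem hx) x⁻¹, inv_mul_cancel_right]
    exact inv_mem hx

variable [Finite G]

theorem card_hom_units_le (Q : Type u) [Group Q] [Finite Q] :
    Nat.card (Q →* ℂˣ) ≤ Nat.card Q := by
  rw [← Nat.card_congr (Abelianization.lift (G := Q) (A := ℂˣ)).symm,
    CommGroup.card_monoidHom_of_hasEnoughRootsOfUnity (Abelianization Q) ℂ]
  exact Nat.card_le_card_of_surjective Abelianization.of (QuotientGroup.mk'_surjective _)

/-- The commutator pairing into the centre. -/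
theorem card_le_of_commutators (ω : Subgroup.center G →* ℂˣ) (hω : Function.Injective ω)
    (X A : Subgroup G) (h : ∀ x ∈ X, ∀ a ∈ A, ⁅x, a⁆ ∈ Subgroup.center G) :
    Nat.card X ≤ Nat.card (X ⊓ Subgroup.centralizer (A : Set G) : Subgroup G) *
      (Subgroup.center G).relIndex A := by
  classical
  set Z0 := (Subgroup.center G).subgroupOf A with hZ0
  let Φ₀ : X → A →* ℂˣ := fun x =>
    { toFun := fun a => ω ⟨⁅(x : G), (a : G)⁆, h x x.2 a a.2⟩
      map_one' := by rw [← map_one ω]; congr 1; exact Subtype.ext (commutatorElement_one_right _)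
      map_mul' := fun a b => by
        rw [← map_mul]; congr 1
        exact Subtype.ext (commutator_mem_center_mul (h x x.2 a a.2) (h x x.2 b b.2)) }
  have hker : ∀ x : X, Z0 ≤ (Φ₀ x).ker := fun x a ha => by
    rw [MonoidHom.mem_ker]
    show ω _ = 1
    rw [← map_one ω]; congr 1
    exact Subtype.ext (commutatorElement_eq_one_iff_mul_comm.2
      (Subgroup.mem_center_iff.1 (Subgroup.mem_subgroupOf.1 ha) (x : G)))
  haveI : Z0.Normal := inferInstanceAs ((Subgroup.center G).subgroupOf A).Normal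
  let Φ : X →* (A ⧸ Z0 →* ℂˣ) :=
    { toFun := fun x => QuotientGroup.lift Z0 (Φ₀ x) (hker x)
      map_one' := MonoidHom.ext fun w => by
        induction w using QuotientGroup.induction_on with
        | H a =>
          show ω _ = 1
          rw [← map_one ω]; congr 1; exact Subtype.ext (commutatorElement_one_left _)
      map_mul' := fun x y => MonoidHom.ext fun w => by
        induction w using QuotientGroup.induction_on with
        | H a =>
          show ω _ = ω _ * ω _
          rw [← map_mul]; congr 1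
          exact Subtype.ext (mul_commutator_mem_center (h x x.2 a a.2) (h y y.2 a a.2)) }
  have hk : Φ.ker ≤ (X ⊓ Subgroup.centralizer (A : Set G)).subgroupOf X := by
    intro x hx
    refine ⟨x.2, Subgroup.mem_centralizer_iff.2 fun a ha => ?_⟩
    have h1 := congrArg (fun f : A ⧸ Z0 →* ℂˣ => f (QuotientGroup.mk ⟨a, ha⟩)) (MonoidHom.mem_ker.1 hx)
    have h2 : ω ⟨⁅(x : G), a⁆, h x x.2 a ha⟩ = ω 1 := by rw [map_one]; exact h1
    exact (commutatorElement_eq_one_iff_mul_comm.1 (congrArg Subtype.val (hω h2))).symm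
  have hQ : Nat.card (A ⧸ Z0) = (Subgroup.center G).relIndex A := (Subgroup.index_eq_card Z0).symm
  have hcd := card_hom_units_le (A ⧸ Z0)
  haveI : Finite (A ⧸ Z0 →* ℂˣ) := Finite.of_equiv _ (Abelianization.lift (G := A ⧸ Z0) (A := ℂˣ)).symm
  calc Nat.card X = Nat.card Φ.ker * Nat.card Φ.range := by
        rw [← Subgroup.index_ker, Subgroup.card_mul_index]
    _ ≤ _ := Nat.mul_le_mul
        ((Subgroup.card_le_of_le hk).trans_eq (Nat.card_congr
          (Subgroup.subgroupOfEquivOfLe inf_le_left).toEquiv))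
        (((Nat.card_le_card_of_injective _ Subtype.val_injective).trans hcd).trans_eq hQ)

/-- A normal subgroup of a `p`-group meets the centre modulo a normal subgroup not containing it. -/
theorem exists_commutator_mem {p : ℕ} [Fact p.Prime] (H N K : Subgroup G) [K.Normal]
    (hH : IsPGroup p H) (hNH : N ≤ H) (hnorm : ∀ x ∈ H, ∀ v ∈ N, x * v * x⁻¹ ∈ N) (hNK : ¬ N ≤ K) :
    ∃ v ∈ N, v ∉ K ∧ ∀ x ∈ H, ⁅x, v⁆ ∈ K := by
  let π := QuotientGroup.mk' K
  set Hb := H.map π
  let Nb : Subgroup Hb := (N.map π).subgroupOf Hb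
  haveI : Nb.Normal := ⟨fun v hv g => by
    obtain ⟨x, hx, hxg⟩ := g.2
    obtain ⟨w, hw, hwv⟩ := Subgroup.mem_subgroupOf.1 hv
    refine Subgroup.mem_subgroupOf.2 ⟨x * w * x⁻¹, hnorm x hx w hw, ?_⟩
    rw [map_mul, map_mul, map_inv, hxg, hwv]; rfl⟩
  have hNb : Nb ≠ ⊥ := fun h0 => hNK fun v hv => by
    have hv' : (⟨π v, Subgroup.mem_map_of_mem π (hNH hv)⟩ : Hb) ∈ Nb :=
      Subgroup.mem_subgroupOf.2 (Subgroup.mem_map_of_mem π hv)
    rw [h0, Subgroup.mem_bot] at hv'
    exact (QuotientGroup.eq_one_iff v).1 (congrArg Subtype.val hv')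
  obtain ⟨w, hw, hw1⟩ : ∃ w ∈ Nb ⊓ Subgroup.center Hb, w ≠ 1 := by
    have := PGroup.inf_center_ne_bot (hH.map π) Nb hNb
    rw [Subgroup.ne_bot_iff_exists_ne_one] at this
    obtain ⟨w, hw⟩ := this
    exact ⟨w.1, w.2, fun h => hw (Subtype.ext h)⟩
  obtain ⟨v, hv, hvw⟩ := Subgroup.mem_subgroupOf.1 hw.1
  refine ⟨v, hv, fun hvK => hw1 (Subtype.ext (hvw ▸ (QuotientGroup.eq_one_iff v).2 hvK)),
    fun x hx => (QuotientGroup.eq_one_iff _).1 ?_⟩
  show π ⁅x, v⁆ = 1
  rw [map_commutatorElement, commutatorElement_eq_one_iff_mul_comm, hvw]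
  exact congrArg Subtype.val (Subgroup.mem_center_iff.1 hw.2 ⟨π x, Subgroup.mem_map_of_mem π hx⟩)

/-- The standing hypothesis: abelian normal subgroups are central. -/
def AbelianNormalCentral (G : Type u) [Group G] : Prop :=
  ∀ A : Subgroup G, A.Normal → (∀ a ∈ A, ∀ b ∈ A, a * b = b * a) → A ≤ Subgroup.center G

/-- Such normal `p`-subgroups have class at most two. -/
theorem commutator_le_center (hab : AbelianNormalCentral G) {p : ℕ} [Fact p.Prime] (U : Subgroup G)
    [U.Normal] (hU : IsPGroup p U) : ⁅U, U⁆ ≤ Subgroup.center G := by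
  by_contra hcon
  have hUU : ⁅U, U⁆ ≤ U := Subgroup.commutator_le_left U U
  obtain ⟨v, hv, hvZ, hvc⟩ := exists_commutator_mem U ⁅U, U⁆ (Subgroup.center G) hU hUU
    (fun x _ v hv => Subgroup.Normal.conj_mem inferInstance v hv x) hcon
  let A : Subgroup G := ⁅U, U⁆ ⊓ modCenter U U
  refine hvZ (hab A inferInstance ?_ ⟨hv, hUU hv, hvc⟩)
  intro a ha b hb
  have hle : ⁅U, U⁆ ≤ Subgroup.centralizer ({a} : Set G) := by
    rw [Subgroup.commutator_le]
    intro x hx y hy
    rw [Subgroup.mem_centralizer_singleton_iff, ← commutatorElement_eq_one_iff_mul_comm]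
    have hc : ∀ z ∈ U, ⁅z, a⁆ ∈ Subgroup.center G := ha.2.2
    have e := commutatorElement_def x y
    rw [e, mul_commutator_mem_center (hc _ (U.mul_mem (U.mul_mem hx hy) (U.inv_mem hx)))
      (hc _ (U.inv_mem hy)), mul_commutator_mem_center (hc _ (U.mul_mem hx hy)) (hc _ (U.inv_mem hx)),
      mul_commutator_mem_center (hc _ hx) (hc _ hy)]
    have hi : ∀ z ∈ U, ⁅z⁻¹, a⁆ = ⁅z, a⁆⁻¹ := fun z hz => eq_inv_of_mul_eq_one_left (by
      rw [← mul_commutator_mem_center (hc _ (U.inv_mem hz)) (hc _ hz), inv_mul_cancel,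
        commutatorElement_one_left])
    rw [hi x hx, hi y hy, mul_assoc _ ⁅y, a⁆, Subgroup.mem_center_iff.1 (inv_mem (hc x hx)) ⁅y, a⁆,
      mul_inv_cancel_left, mul_inv_cancel]
  exact (Subgroup.mem_centralizer_singleton_iff.1 (hle hb.1)).symm

/-- A `p`-subgroup normalised as here acts trivially on `U` modulo the centre. -/
theorem modCenter_eq_of_closure (ω : Subgroup.center G →* ℂˣ) (hω : Function.Injective ω)
    (hab : AbelianNormalCentral G) {p : ℕ} [Fact p.Prime] (U P F : Subgroup G) [U.Normal]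
    (hU : IsPGroup p U) (hP : IsPGroup p P) (hF : ∀ x ∈ F, ∀ u ∈ U, ⁅x, u⁆ ∈ Subgroup.center G)
    [(P ⊔ F).Normal] : modCenter U (P ⊔ F) = U := by
  refine le_antisymm (fun u hu => hu.1) ?_
  set U1 := modCenter U (P ⊔ F) with hU1
  let V : Subgroup G := U ⊓ Subgroup.centralizer (U1 : Set G)
  have hclass := commutator_le_center hab U hU
  have hV : V ≤ Subgroup.center G := by
    by_contra hcon
    have hH : IsPGroup p (P ⊔ V : Subgroup G) := IsPGroup.to_sup_of_normal_right hP
      (hU.to_le inf_le_left)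
    obtain ⟨v, hv, hvZ, hvc⟩ := exists_commutator_mem (P ⊔ V) V (Subgroup.center G) hH le_sup_right
      (fun x _ v hv => Subgroup.Normal.conj_mem inferInstance v hv x) hcon
    have hvU1 : v ∈ U1 := by
      refine mem_modCenter.2 ⟨hv.1, fun x hx => ?_⟩
      rw [Subgroup.sup_eq_closure] at hx
      refine mem_of_commutator_mem_center (fun y hy => ?_) x hx
      rcases hy with hy | hy
      · exact hvc y (Subgroup.mem_sup_left hy)
      · exact hF y hy v hv.1
    let A : Subgroup G := U1 ⊓ V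
    refine hvZ (hab A inferInstance (fun a ha b hb => ?_) ⟨hvU1, hv⟩)
    exact (Subgroup.mem_centralizer_iff.1 hb.2.2 a ha.1)
  have h1 := card_le_of_commutators ω hω U U1 fun x hx a ha =>
    hclass (Subgroup.commutator_mem_commutator hx ha.1)
  have h2 : Nat.card V ≤ Nat.card ((Subgroup.center G).subgroupOf U1) := by
    refine Nat.card_le_card_of_injective
      (fun v => ⟨⟨v.1, mem_modCenter.2 ⟨v.2.1, fun x _ => ?_⟩⟩, hV v.2⟩) fun a b h => ?_
    · rw [commutatorElement_eq_one_iff_mul_comm.2 (Subgroup.mem_center_iff.1 (hV v.2) x)]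
      exact one_mem _
    · exact Subtype.ext (congrArg (fun c : (Subgroup.center G).subgroupOf U1 => ((c : U1) : G)) h)
  have h3 : Nat.card U ≤ Nat.card U1 := h1.trans ((Nat.mul_le_mul_right _ h2).trans_eq
    ((Subgroup.center G).subgroupOf U1).card_mul_index)
  exact le_of_eq (Subgroup.eq_of_le_of_card_ge (fun u (hu : u ∈ U1) => (mem_modCenter.1 hu).1) h3).symm

/-- The fixed-point-free case: elements commuting with all of `G` modulo the centre. -/
theorem modCenter_top_le (U : Subgroup G) [U.Normal]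
    (hnil : ∀ C : Subgroup G, C.Normal → (∀ x y : G, ⁅x, y⁆ ∈ C) →
      ∀ g : G, (∀ c ∈ C, c * g = g * c) → g ∈ Subgroup.center G) :
    modCenter U ⊤ ≤ Subgroup.center G := by
  set U0 := modCenter U ⊤
  intro u hu
  refine hnil (Subgroup.centralizer (U0 : Set G)) inferInstance (fun x y => ?_) u
    (fun c hc => (Subgroup.mem_centralizer_iff.1 hc u hu).symm)
  rw [Subgroup.mem_centralizer_iff]
  intro w hw
  symm
  rw [← commutatorElement_eq_one_iff_mul_comm, commutatorElement_def x y]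
  have hc : ∀ z, ⁅z, w⁆ ∈ Subgroup.center G := fun z => hw.2 z (Subgroup.mem_top z)
  have hi : ∀ z, ⁅z⁻¹, w⁆ = ⁅z, w⁆⁻¹ := fun z => eq_inv_of_mul_eq_one_left (by
    rw [← mul_commutator_mem_center (hc _) (hc _), inv_mul_cancel, commutatorElement_one_left])
  rw [mul_commutator_mem_center (hc _) (hc _), mul_commutator_mem_center (hc _) (hc _),
    mul_commutator_mem_center (hc _) (hc _), hi, hi, mul_assoc _ ⁅y, w⁆,
    Subgroup.mem_center_iff.1 (inv_mem (hc x)) ⁅y, w⁆, mul_inv_cancel_left, mul_inv_cancel]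

/-- An abelian subgroup of `U` of small square index. -/
theorem exists_abelian_small_index (ω : Subgroup.center G →* ℂˣ) (hω : Function.Injective ω)
    (U : Subgroup G) (hclass : ⁅U, U⁆ ≤ Subgroup.center G) :
    ∃ A : Subgroup G, A ≤ U ∧ (∀ a ∈ A, ∀ b ∈ A, a * b = b * a) ∧ U ⊓ Subgroup.center G ≤ A ∧
      A.relIndex U ^ 2 * Nat.card (U ⊓ Subgroup.center G : Subgroup G) ≤ Nat.card U := by
  classical
  obtain ⟨A, ⟨hAU, hA, hZA⟩, hmax⟩ := Set.Finite.exists_maximalFor (fun A : Subgroup G => A)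
    {A : Subgroup G | A ≤ U ∧ (∀ a ∈ A, ∀ b ∈ A, a * b = b * a) ∧ U ⊓ Subgroup.center G ≤ A}
    (Set.toFinite _) ⟨U ⊓ Subgroup.center G, inf_le_left,
      fun a ha b _ => (Subgroup.mem_center_iff.1 ha.2 b).symm, le_rfl⟩
  refine ⟨A, hAU, hA, hZA, ?_⟩
  have hCA : U ⊓ Subgroup.centralizer (A : Set G) ≤ A := by
    intro u hu
    by_contra hnot
    let B := Subgroup.closure (insert u (A : Set G))
    have hAB : A ≤ B := fun a ha => Subgroup.subset_closure (Set.mem_insert_of_mem _ ha)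
    have hBU : B ≤ U := (Subgroup.closure_le U).2 (Set.insert_subset hu.1 hAU)
    haveI hBc : IsMulCommutative B := Subgroup.isMulCommutative_closure (by
      rintro a (rfl | ha) b (rfl | hb)
      · rfl
      · exact (Subgroup.mem_centralizer_iff.1 hu.2 b hb).symm
      · exact Subgroup.mem_centralizer_iff.1 hu.2 a ha
      · exact hA a ha b hb)
    exact hnot (hmax ⟨hBU, fun a ha b hb => congrArg Subtype.val (mul_comm' (⟨a, ha⟩ : B) ⟨b, hb⟩),
      hZA.trans hAB⟩ hAB (Subgroup.subset_closure (Set.mem_insert _ _)))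
  have h1 := card_le_of_commutators ω hω U A fun x hx a ha =>
    hclass (Subgroup.commutator_mem_commutator hx (hAU ha))
  set r := (Subgroup.center G).relIndex A
  set Z0 := Nat.card (U ⊓ Subgroup.center G : Subgroup G)
  have e1 : Nat.card U = Nat.card A * A.relIndex U := by
    rw [← Nat.card_congr (Subgroup.subgroupOfEquivOfLe hAU).toEquiv]
    exact (A.subgroupOf U).card_mul_index.symm
  have e2 : Nat.card A = Z0 * r := by
    have he : (Subgroup.center G).subgroupOf A = (U ⊓ Subgroup.center G).subgroupOf A := by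
      ext a
      simp only [Subgroup.mem_subgroupOf, Subgroup.mem_inf, hAU a.2, true_and]
    rw [← ((Subgroup.center G).subgroupOf A).card_mul_index, he,
      Nat.card_congr (Subgroup.subgroupOfEquivOfLe hZA).toEquiv]
    rw [show ((U ⊓ Subgroup.center G).subgroupOf A).index = r from he ▸ rfl]
  have h3 : Nat.card A * A.relIndex U ≤ Nat.card A * r :=
    e1 ▸ h1.trans (Nat.mul_le_mul_right _ (Subgroup.card_le_of_le hCA))
  have h4 : A.relIndex U ≤ r := Nat.le_of_mul_le_mul_left h3 Nat.card_pos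
  calc A.relIndex U ^ 2 * Z0 ≤ A.relIndex U * r * Z0 := by
        rw [pow_two]; exact Nat.mul_le_mul_right _ (Nat.mul_le_mul_left _ h4)
    _ = Nat.card U := by rw [e1, e2]; ring

/-- An element moving at least `√|U : U ∩ Z|` cosets: its class size is divisible by the index of an
abelian subgroup. -/
theorem exists_class_element (U A : Subgroup G) [U.Normal] {p q : ℕ} [Fact p.Prime] [Fact q.Prime]
    (hpq : p ≠ q) (hU : IsPGroup p U) (hclass : ⁅U, U⁆ ≤ Subgroup.center G)
    (hkill : ∀ x : G, (∃ i : ℕ, x ^ p ^ i = 1) → ∀ u ∈ U, ⁅x, u⁆ ∈ Subgroup.center G)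
    (htop : modCenter U ⊤ ≤ Subgroup.center G)
    (hprimes : ∀ g : G, ∃ i j : ℕ, orderOf g = p ^ i * q ^ j)
    (hA : A.relIndex U ^ 2 * Nat.card (U ⊓ Subgroup.center G : Subgroup G) ≤ Nat.card U) :
    ∃ y : G, (∃ j : ℕ, y ^ q ^ j = 1) ∧ ∀ x : G, (∃ i : ℕ, x ^ p ^ i = 1) →
      ∀ w : G, (w = y * x ∨ w = x * y) → A.relIndex U ∣ (Subgroup.centralizer ({w} : Set G)).index := by
  classical
  set N := (Subgroup.center G).subgroupOf U with hN
  haveI : N.Normal := inferInstanceAs ((Subgroup.center G).subgroupOf U).Normal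
  letI : CommGroup (U ⧸ N) :=
    { (inferInstance : Group (U ⧸ N)) with
      mul_comm := fun a b => by
        induction a using QuotientGroup.induction_on with
        | H a =>
        induction b using QuotientGroup.induction_on with
        | H b =>
          rw [← QuotientGroup.mk_mul, ← QuotientGroup.mk_mul, QuotientGroup.eq]
          refine Subgroup.mem_subgroupOf.2 ?_
          have h := hclass (Subgroup.commutator_mem_commutator (U.inv_mem b.2) (U.inv_mem a.2))
          simpa [commutatorElement_def, mul_assoc] using h }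
  have hmap : ∀ g : G, N.map ((MulAut.conjNormal g : U ≃* U) : U →* U) = N := fun g => by
    ext u
    constructor
    · rintro ⟨w, hw, rfl⟩
      refine Subgroup.mem_subgroupOf.2 ?_
      show g * (w : G) * g⁻¹ ∈ Subgroup.center G
      exact Subgroup.Normal.conj_mem inferInstance _ (Subgroup.mem_subgroupOf.1 hw) g
    · intro hu
      refine ⟨u, hu, Subtype.ext ?_⟩
      show g * (u : G) * g⁻¹ = u
      rw [Subgroup.mem_center_iff.1 (Subgroup.mem_subgroupOf.1 hu) g, mul_inv_cancel_right]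
  let φ : G →* MulAut (U ⧸ N) :=
    { toFun := fun g => QuotientGroup.congr N N (MulAut.conjNormal g) (hmap g)
      map_one' := MulEquiv.ext fun w => by
        induction w using QuotientGroup.induction_on with
        | H a => show ((MulAut.conjNormal (1 : G) a : U) : U ⧸ N) = a; rw [map_one]; rfl
      map_mul' := fun g h => MulEquiv.ext fun w => by
        induction w using QuotientGroup.induction_on with
        | H a =>
          show ((MulAut.conjNormal (g * h) a : U) : U ⧸ N) = MulAut.conjNormal g (MulAut.conjNormal h a)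
          rw [map_mul]; rfl }
  have hφ : ∀ (g : G) (u : U), φ g (u : U ⧸ N) = (u : U ⧸ N) ↔ ⁅g, (u : G)⁆ ∈ Subgroup.center G := by
    intro g u
    show ((MulAut.conjNormal g u : U) : U ⧸ N) = (u : U ⧸ N) ↔ _
    rw [eq_comm, QuotientGroup.eq, Subgroup.mem_subgroupOf]
    have e : ((u⁻¹ * MulAut.conjNormal g u : U) : G) = (u : G)⁻¹ * ⁅g, (u : G)⁆ * u := by
      simp [commutatorElement_def, mul_assoc]
    rw [e]
    constructor
    · intro h
      simpa [mul_assoc] using Subgroup.Normal.conj_mem inferInstance _ h (u : G)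
    · intro h
      simpa [mul_assoc] using Subgroup.Normal.conj_mem inferInstance _ h (u : G)⁻¹
  have hφp : ∀ x : G, (∃ i : ℕ, x ^ p ^ i = 1) → φ x = 1 := fun x hx => MulEquiv.ext fun w => by
    induction w using QuotientGroup.induction_on with
    | H a => exact (hφ x a).2 (hkill x hx a a.2)
  -- `q`-parts
  have hpart : ∀ g : G, ∃ y : G, (∃ j : ℕ, y ^ q ^ j = 1) ∧ φ g = φ y := by
    intro g
    obtain ⟨i, j, hij⟩ := hprimes g
    obtain ⟨s, t, hst⟩ := Int.isCoprime_iff_nat_coprime.2 (show Nat.Coprime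
      (((p ^ i : ℕ) : ℤ)).natAbs (((q ^ j : ℕ) : ℤ)).natAbs by
      simpa using ((Nat.coprime_primes Fact.out Fact.out).2 hpq).pow i j)
    refine ⟨(g ^ (p ^ i)) ^ s, ⟨j, ?_⟩, ?_⟩
    · rw [← zpow_natCast, ← zpow_mul, mul_comm, zpow_mul, zpow_natCast, ← pow_mul, ← hij,
        pow_orderOf_eq_one, one_zpow]
    · have hx : φ ((g ^ (q ^ j)) ^ t) = 1 := hφp _ ⟨i, by
        rw [← zpow_natCast, ← zpow_mul, mul_comm, zpow_mul, zpow_natCast, ← pow_mul, mul_comm,
          ← hij, pow_orderOf_eq_one, one_zpow]⟩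
      conv_lhs => rw [← zpow_one g, ← hst]
      rw [zpow_add, map_mul, mul_comm s, mul_comm t, zpow_mul, zpow_mul, zpow_natCast, zpow_natCast,
        hx, mul_one]
  have hrange : IsPGroup q φ.range := by
    rintro ⟨_, g, rfl⟩
    obtain ⟨y, ⟨j, hy⟩, hgy⟩ := hpart g
    exact ⟨j, Subtype.ext (by
      show φ g ^ q ^ j = 1
      rw [hgy, ← map_pow, hy, map_one])⟩
  have hWcard : Nat.card (U ⧸ N) * Nat.card (U ⊓ Subgroup.center G : Subgroup G) = Nat.card U := by
    rw [← N.card_mul_index, mul_comm, Subgroup.index_eq_card,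
      show N = (U ⊓ Subgroup.center G).subgroupOf U by
        ext a; simp [hN, Subgroup.mem_subgroupOf],
      Nat.card_congr (Subgroup.subgroupOfEquivOfLe inf_le_left).toEquiv]
  have hq : ¬ q ∣ Nat.card (U ⧸ N) := fun hd => by
    obtain ⟨k, hk⟩ := IsPGroup.iff_card.1 hU
    have := hd.trans (Dvd.intro _ hWcard)
    rw [hk] at this
    exact hpq ((Nat.prime_dvd_prime_iff_eq Fact.out Fact.out).1
      ((Fact.out : q.Prime).dvd_of_dvd_pow this)).symm
  obtain ⟨_, ⟨g, rfl⟩, hg⟩ := exists_small_fixedOf _ (U ⧸ N) φ.range rfl hrange hq (fun w hw => by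
    induction w using QuotientGroup.induction_on with
    | H a =>
      refine (QuotientGroup.eq_one_iff a).2 (Subgroup.mem_subgroupOf.2 (htop ⟨a.2, fun x _ => ?_⟩))
      exact (hφ x a).1 (hw _ ⟨x, rfl⟩))
  obtain ⟨y, hy, hgy⟩ := hpart g
  refine ⟨y, hy, fun x hx v hv => ?_⟩
  have hφv : φ y = φ v := by
    rcases hv with rfl | rfl <;> rw [map_mul, hφp x hx]
    · rw [mul_one]
    · rw [one_mul]
  set C := Subgroup.centralizer ({v} : Set G)
  have hfix : ∀ u ∈ U ⊓ C, ∀ h : u ∈ U, ((⟨u, h⟩ : U) : U ⧸ N) ∈ fixedOf (φ g) := fun u hu h => by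
    rw [mem_fixedOf, hgy, hφv, hφ]
    rw [commutatorElement_eq_one_iff_mul_comm.2 (Subgroup.mem_centralizer_singleton_iff.1 hu.2).symm]
    exact one_mem _
  set b := (U ⊓ C).relIndex U
  have e1 : Nat.card U = Nat.card (U ⊓ C : Subgroup G) * b := by
    rw [← Nat.card_congr (Subgroup.subgroupOfEquivOfLe (inf_le_left : U ⊓ C ≤ U)).toEquiv]
    exact ((U ⊓ C).subgroupOf U).card_mul_index.symm
  have e2 : Nat.card (U ⊓ C : Subgroup G) ≤
      Nat.card (fixedOf (φ g)) * Nat.card (U ⊓ Subgroup.center G : Subgroup G) := by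
    let f : (U ⊓ C : Subgroup G) →* U ⧸ N := (QuotientGroup.mk' N).comp (Subgroup.inclusion inf_le_left)
    rw [← f.ker.card_mul_index, Subgroup.index_ker, mul_comm]
    refine Nat.mul_le_mul (Subgroup.card_le_of_le ?_) ?_
    · rintro _ ⟨u, rfl⟩
      exact hfix u u.2 u.2.1
    · refine Nat.card_le_card_of_injective (fun u => ⟨((u : (U ⊓ C : Subgroup G)) : G), u.1.2.1,
        Subgroup.mem_subgroupOf.1 ((QuotientGroup.eq_one_iff (Subgroup.inclusion (inf_le_left : U ⊓ C ≤ U) u.1)).1 (MonoidHom.mem_ker.1 u.2))⟩) fun a b h => ?_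
      exact Subtype.ext (Subtype.ext (congrArg (fun c : (U ⊓ Subgroup.center G : Subgroup G) => (c : G)) h))
  set Z0 := Nat.card (U ⊓ Subgroup.center G : Subgroup G)
  have hab2 : A.relIndex U ^ 2 ≤ b ^ 2 := by
    have h1 : Nat.card U ^ 2 ≤ b ^ 2 * (Nat.card (U ⧸ N) * Z0) * Z0 := by
      calc Nat.card U ^ 2 = Nat.card (U ⊓ C : Subgroup G) ^ 2 * b ^ 2 := by rw [e1, mul_pow]
        _ ≤ (Nat.card (fixedOf (φ g)) * Z0) ^ 2 * b ^ 2 :=
            Nat.mul_le_mul_right _ (Nat.pow_le_pow_left e2 2)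
        _ = Nat.card (fixedOf (φ g)) ^ 2 * (b ^ 2 * Z0 * Z0) := by ring
        _ ≤ Nat.card (U ⧸ N) * (b ^ 2 * Z0 * Z0) := Nat.mul_le_mul_right _ hg
        _ = _ := by ring
    rw [hWcard] at h1
    have h2 : Nat.card U ≤ b ^ 2 * Z0 := by
      refine Nat.le_of_mul_le_mul_left ?_ (Nat.card_pos (α := U))
      calc Nat.card U * Nat.card U = Nat.card U ^ 2 := by ring
        _ ≤ b ^ 2 * Nat.card U * Z0 := h1
        _ = _ := by ring
    exact Nat.le_of_mul_le_mul_right (hA.trans h2) Nat.card_pos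
  have hale : A.relIndex U ≤ b := (Nat.pow_le_pow_iff_left two_ne_zero).1 hab2
  obtain ⟨k, hk⟩ := IsPGroup.iff_card.1 hU
  obtain ⟨s, -, hs⟩ := (Nat.dvd_prime_pow (Fact.out : p.Prime)).1
    (show A.relIndex U ∣ p ^ k from hk ▸ Subgroup.relIndex_dvd_card _ _)
  obtain ⟨t, -, ht⟩ := (Nat.dvd_prime_pow (Fact.out : p.Prime)).1
    (show b ∣ p ^ k from hk ▸ Subgroup.relIndex_dvd_card _ _)
  have hab : A.relIndex U ∣ b := by
    rw [hs, ht] at hale ⊢
    exact Nat.pow_dvd_pow p ((Nat.pow_le_pow_iff_right (Fact.out : p.Prime).one_lt).1 hale)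
  refine hab.trans ?_
  -- `[U : U ∩ C] = [CU : C]`
  have hb : b = C.relIndex (C ⊔ U) := by
    have h1 := Subgroup.relIndex_mul_relIndex (U ⊓ C) U (C ⊔ U) inf_le_left le_sup_right
    have h2 := Subgroup.relIndex_mul_relIndex (U ⊓ C) C (C ⊔ U) inf_le_right le_sup_left
    have h3 : U.relIndex (C ⊔ U) = U.relIndex C := Subgroup.relIndex_sup_right C U
    rw [h3] at h1
    rw [Subgroup.inf_relIndex_right U C] at h2
    refine Nat.eq_of_mul_eq_mul_right (m := U.relIndex C) (Nat.pos_of_ne_zero (Subgroup.index_ne_zero_of_finite (H := U.subgroupOf C))) ?_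
    rw [show b = (U ⊓ C).relIndex U from rfl, h1, ← h2, mul_comm]
  rw [hb]
  exact Dvd.intro _ (Subgroup.relIndex_mul_index le_sup_left)

end Cfsg.Agent.MetanilpotentPrim
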