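import Mathlib

/-!
# A small fixed subgroup for a coprime `q`-group of automorphisms

If a `q`-group `L` of automorphisms of a finite abelian group `W` of order prime to `q` fixes only
the identity, then some element of `L` fixes at most `√|W|` elements.
-/

set_option autoImplicit false
set_option maxHeartbeats 400000

namespace Cfsg.Agent.MetanilpotentPrim

universe v

/-- The fixed points of an automorphism. -/
def fixedOf {W : Type v} [CommGroup W] (g : MulAut W) : Subgroup W :=
  g.toMonoidHom.eqLocus (MonoidHom.id W)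

theorem mem_fixedOf {W : Type v} [CommGroup W] {g : MulAut W} {w : W} :
    w ∈ fixedOf g ↔ g w = w := Iff.rfl

theorem exists_small_fixedOf {q : ℕ} [Fact q.Prime] : ∀ (n : ℕ) (W : Type v) [CommGroup W] [Finite W]
    (L : Subgroup (MulAut W)), Nat.card W = n → IsPGroup q L → ¬ q ∣ Nat.card W →
    (∀ w : W, (∀ l ∈ L, l w = w) → w = 1) →
    ∃ g ∈ L, Nat.card (fixedOf g) ^ 2 ≤ Nat.card W := by
  intro n
  induction n using Nat.strong_induction_on with
  | _ n ih =>
  intro W _ _ L hn hL hq hfix
  classical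
  rcases eq_or_ne L ⊥ with rfl | hLne
  · refine ⟨1, Subgroup.one_mem _, ?_⟩
    have : Subsingleton W := subsingleton_of_forall_eq 1 fun w => hfix w fun l hl => by
      rw [Subgroup.mem_bot.1 hl]; rfl
    simp
  have hqp : q.Prime := Fact.out
  haveI : Nontrivial L := (Subgroup.nontrivial_iff_ne_bot L).2 hLne
  haveI : Finite L := Finite.of_injective (fun l : L => ⇑(l : MulAut W))
    (fun a b h => Subtype.ext (MulEquiv.ext (congrFun h)))
  haveI := hL.center_nontrivial
  obtain ⟨z₀, hz₀⟩ : ∃ z : Subgroup.center L, orderOf z = q := by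
    obtain ⟨j, hj⟩ := IsPGroup.iff_card.1 (hL.to_subgroup (Subgroup.center L))
    refine exists_prime_orderOf_dvd_card' q ?_
    rw [hj]
    refine dvd_pow_self q fun h0 => ?_
    have := Finite.one_lt_card (α := Subgroup.center L)
    rw [hj, h0, pow_zero] at this
    exact this.false
  obtain ⟨z, hzL, hzo, hzc⟩ : ∃ z ∈ L, orderOf z = q ∧ ∀ l ∈ L, Commute l z :=
    ⟨((z₀ : L) : MulAut W), (z₀ : L).2, by rw [Subgroup.orderOf_coe, Subgroup.orderOf_coe, hz₀],
      fun l hl => congrArg Subtype.val (Subgroup.mem_center_iff.1 z₀.2 ⟨l, hl⟩)⟩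
  set W₁ := fixedOf z with hW₁
  have hinv : ∀ l ∈ L, ∀ w ∈ W₁, l w ∈ W₁ := fun l hl w hw => by
    rw [hW₁, mem_fixedOf, ← MulAut.mul_apply, ← (hzc l hl).eq, MulAut.mul_apply, mem_fixedOf.1 hw]
  -- the norm map of `z`
  let π : W →* W := ∏ i ∈ Finset.range q, (z ^ i).toMonoidHom
  have hπ : ∀ w, π w = ∏ i ∈ Finset.range q, (z ^ i) w := fun w =>
    MonoidHom.finset_prod_apply _ _ w
  have hπW₁ : ∀ w, π w ∈ W₁ := fun w => by
    rw [hW₁, mem_fixedOf, hπ, map_prod]
    have h2 : ∀ i, z ((z ^ i) w) = (z ^ (i + 1)) w := fun i => by rw [pow_succ', MulAut.mul_apply]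
    simp only [h2]
    refine mul_right_cancel (b := (z ^ 0) w) ?_
    rw [← Finset.prod_range_succ' (fun i => (z ^ i) w), Finset.prod_range_succ]
    congr 1
    rw [← hzo, pow_orderOf_eq_one, pow_zero]
  have hπfix : ∀ w ∈ W₁, π w = w ^ q := fun w hw => by
    rw [hπ]
    have : ∀ i, (z ^ i) w = w := fun i => by
      induction i with
      | zero => rfl
      | succ i h => rw [pow_succ, MulAut.mul_apply, mem_fixedOf.1 hw, h]
    simp [this]
  have hcop : (Nat.card W).Coprime q := (hqp.coprime_iff_not_dvd.2 hq).symm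
  have hroot : ∀ w : W, w ^ q = 1 → w = 1 := fun w hw => (powCoprime hcop).injective (by
    simpa using hw)
  have hrange : π.range = W₁ := by
    refine le_antisymm (by rintro _ ⟨w, rfl⟩; exact hπW₁ w) fun w hw => ?_
    have hcop₁ : (Nat.card W₁).Coprime q :=
      hcop.coprime_dvd_left (Subgroup.card_subgroup_dvd_card W₁)
    obtain ⟨v, hv⟩ := (powCoprime hcop₁).surjective ⟨w, hw⟩
    exact ⟨(v : W), by rw [hπfix _ v.2]; exact congrArg Subtype.val hv⟩
  have hcardW : Nat.card W = Nat.card π.ker * Nat.card W₁ := by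
    rw [← hrange, ← Subgroup.index_ker π, Subgroup.card_mul_index]
  have hW₁lt : Nat.card W₁ < n := by
    rw [← hn]
    refine lt_of_le_of_ne (Subgroup.card_le_card_group _) fun h => ?_
    have hz1 : z = 1 := MulEquiv.ext fun w =>
      mem_fixedOf.1 ((Subgroup.eq_top_of_card_eq W₁ h).symm ▸ Subgroup.mem_top w : w ∈ W₁)
    rw [hz1, orderOf_one] at hzo
    exact hqp.ne_one hzo.symm
  -- the action on the fixed points of `z`
  let r : L →* MulAut W₁ :=
    { toFun := fun l =>
        { toFun := fun w => ⟨(l : MulAut W) w, hinv l l.2 w w.2⟩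
          invFun := fun w => ⟨(l : MulAut W)⁻¹ w, hinv _ (L.inv_mem l.2) w w.2⟩
          left_inv := fun w => Subtype.ext (by simp)
          right_inv := fun w => Subtype.ext (by simp)
          map_mul' := fun a b => Subtype.ext (by simp) }
      map_one' := MulEquiv.ext fun w => Subtype.ext rfl
      map_mul' := fun a b => MulEquiv.ext fun w => Subtype.ext rfl }
  obtain ⟨_, ⟨g, rfl⟩, hg⟩ := ih _ hW₁lt W₁ r.range rfl (hL.of_surjective r.rangeRestrict
      r.rangeRestrict_surjective) (fun h => hq (h.trans (Subgroup.card_subgroup_dvd_card W₁)))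
    (fun w hw => Subtype.ext (hfix w fun l hl =>
      congrArg Subtype.val (hw (r ⟨l, hl⟩) ⟨⟨l, hl⟩, rfl⟩)))
  set g' : MulAut W := (g : MulAut W) with hg'
  let C : ℕ → Subgroup W := fun i => fixedOf (g' * z ^ i) ⊓ π.ker
  have hcomm : ∀ i : ℕ, ∀ w, g' ((z ^ i) w) = (z ^ i) (g' w) := fun i w => by
    rw [← MulAut.mul_apply, ← MulAut.mul_apply, ((hzc g' g.2).pow_right i).eq]
  have hπcomm : ∀ w, π (g' w) = g' (π w) := fun w => by
    rw [hπ, hπ, map_prod]
    exact Finset.prod_congr rfl fun i _ => (hcomm i w).symm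
  have hπz : ∀ (i : ℕ) w, π ((z ^ i) w) = π w := fun i w => by
    have : (z ^ i) (π w) = π w := by
      induction i with
      | zero => rfl
      | succ i h => rw [pow_succ, MulAut.mul_apply, mem_fixedOf.1 (hπW₁ w), h]
    rw [hπ, ← this, hπ, map_prod]
    exact Finset.prod_congr rfl fun j _ => by
      rw [← MulAut.mul_apply, ← MulAut.mul_apply, (Commute.pow_pow_self z j i).eq]
  -- the pieces of the kernel are independent
  have hindep : ∀ s : Finset ℕ, (∀ i ∈ s, i < q) → ∀ v : ℕ → W, (∀ i ∈ s, v i ∈ C i) →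
      ∏ i ∈ s, v i = 1 → ∀ i ∈ s, v i = 1 := by
    intro s
    induction s using Finset.induction with
    | empty => simp
    | insert a s ha IH =>
      intro hs v hv hprod
      have hlt : ∀ i ∈ s, i < q := fun i hi => hs i (Finset.mem_insert_of_mem hi)
      let T : W →* W := ((z ^ a).toMonoidHom.comp g'.toMonoidHom) / MonoidHom.id W
      have hT : ∀ w, T w = (z ^ a) (g' w) / w := fun w => rfl
      have hTa : T (v a) = 1 := by
        rw [hT, ← hcomm, ← MulAut.mul_apply, mem_fixedOf.1 (hv a (Finset.mem_insert_self _ _)).1,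
          div_self']
      have hTC : ∀ b ∈ s, T (v b) ∈ C b := by
        intro b hb
        obtain ⟨h1, h2⟩ := hv b (Finset.mem_insert_of_mem hb)
        rw [hT]
        refine (C b).div_mem ⟨?_, ?_⟩ ⟨h1, h2⟩
        · show (g' * z ^ b) ((z ^ a) (g' (v b))) = (z ^ a) (g' (v b))
          have h1' : g' ((z ^ b) (v b)) = v b := mem_fixedOf.1 h1
          have hzz : ∀ w, (z ^ b) ((z ^ a) w) = (z ^ a) ((z ^ b) w) := fun w => by
            rw [← MulAut.mul_apply, ← MulAut.mul_apply, (Commute.pow_pow_self z b a).eq]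
          rw [MulAut.mul_apply, hzz, hcomm a, ← hcomm b, h1']
        · show (z ^ a) (g' (v b)) ∈ π.ker
          rw [MonoidHom.mem_ker, hπz, hπcomm, MonoidHom.mem_ker.1 h2, map_one]
      have hT0 := IH hlt (fun b => T (v b)) hTC (by
        have := congrArg T hprod
        rw [Finset.prod_insert ha, map_mul, hTa, one_mul, map_prod, map_one] at this
        exact this)
      have hzero : ∀ b ∈ s, v b = 1 := by
        intro b hb
        obtain ⟨h1, h2⟩ := hv b (Finset.mem_insert_of_mem hb)
        have h3 := hT0 b hb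
        rw [hT, div_eq_one] at h3
        have h4 : g' (v b) = ((z ^ b)⁻¹) (v b) := by
          have h1' := mem_fixedOf.1 h1
          rw [MulAut.mul_apply, hcomm] at h1'
          conv_rhs => rw [← h1']
          simp
        rw [h4, ← MulAut.mul_apply] at h3
        have hu : z ^ a * (z ^ b)⁻¹ ≠ 1 := fun h => by
          have := pow_injOn_Iio_orderOf (x := z) (by rw [Set.mem_Iio, hzo]; exact hs a (Finset.mem_insert_self _ _))
            (by rw [Set.mem_Iio, hzo]; exact hlt b hb) (mul_inv_eq_one.1 h)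
          exact ha (this ▸ hb)
        have hmem : z ^ a * (z ^ b)⁻¹ ∈ Subgroup.zpowers z :=
          Subgroup.mul_mem _ (Subgroup.npow_mem_zpowers z a)
            (Subgroup.inv_mem _ (Subgroup.npow_mem_zpowers z b))
        have hzmem : z ∈ Subgroup.zpowers (z ^ a * (z ^ b)⁻¹) := by
          have hle : Subgroup.zpowers (z ^ a * (z ^ b)⁻¹) ≤ Subgroup.zpowers z :=
            Subgroup.zpowers_le.2 hmem
          haveI : Finite (Subgroup.zpowers z) := Nat.finite_of_card_ne_zero (by
            rw [Nat.card_zpowers, hzo]; exact hqp.ne_zero)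
          have hd := Subgroup.card_dvd_of_le hle
          rw [Nat.card_zpowers, Nat.card_zpowers, hzo] at hd
          have hord := (hqp.eq_one_or_self_of_dvd _ hd).resolve_left fun h => hu (orderOf_eq_one_iff.1 h)
          rw [Subgroup.eq_of_le_of_card_ge hle (le_of_eq (by rw [Nat.card_zpowers, Nat.card_zpowers,
            hzo, hord]))]
          exact Subgroup.mem_zpowers z
        have hfixv : v b ∈ W₁ := by
          obtain ⟨k, hk⟩ := hzmem
          have hmem' : z ^ a * (z ^ b)⁻¹ ∈ MulAction.stabilizer (MulAut W) (v b) := h3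
          have := Subgroup.zpow_mem _ hmem' k
          rw [show (z ^ a * (z ^ b)⁻¹) ^ k = z from hk] at this
          exact this
        refine hroot _ ?_
        rw [← hπfix _ hfixv, MonoidHom.mem_ker.1 h2]
      intro i hi
      rcases Finset.mem_insert.1 hi with rfl | hi'
      · rw [Finset.prod_insert ha, Finset.prod_eq_one hzero, mul_one] at hprod
        exact hprod
      · exact hzero i hi'
  have hprod : ∏ i : Fin q, Nat.card (C i) ≤ Nat.card π.ker := by
    rw [← Nat.card_pi]
    refine Nat.card_le_card_of_injective (fun v : (i : Fin q) → C i =>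
      (⟨∏ i, (v i : W), Subgroup.prod_mem _ fun i _ => (v i).2.2⟩ : π.ker)) fun v v' hvv => ?_
    funext i
    apply Subtype.ext
    let u : ℕ → W := fun j => if h : j < q then (v ⟨j, h⟩ : W) / (v' ⟨j, h⟩ : W) else 1
    have h := hindep (Finset.range q) (fun j hj => Finset.mem_range.1 hj) u
      (fun j hj => by
        simp only [u, dif_pos (Finset.mem_range.1 hj)]
        exact (C j).div_mem (v ⟨j, Finset.mem_range.1 hj⟩).2 (v' ⟨j, Finset.mem_range.1 hj⟩).2)
      (by
        rw [Finset.prod_range]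
        simp only [u, Fin.is_lt, dif_pos, Fin.eta, Finset.prod_div_distrib, div_eq_one]
        exact congrArg Subtype.val hvv) i (Finset.mem_range.2 i.2)
    simpa [u, i.2, div_eq_one] using h
  haveI : NeZero q := ⟨hqp.ne_zero⟩
  obtain ⟨i, hi⟩ : ∃ i : Fin q, Nat.card (C i) ^ 2 ≤ Nat.card π.ker := by
    by_contra hcon
    push Not at hcon
    have h1 : ∏ _i : Fin q, Nat.card π.ker < ∏ i : Fin q, Nat.card (C i) ^ 2 :=
      Finset.prod_lt_prod_of_nonempty (fun _ _ => Nat.card_pos) (fun i _ => hcon i)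
        Finset.univ_nonempty
    rw [Finset.prod_const, Finset.card_univ, Fintype.card_fin, Finset.prod_pow] at h1
    have h2 : (∏ i : Fin q, Nat.card (C i)) ^ 2 ≤ Nat.card π.ker ^ q :=
      (Nat.pow_le_pow_left hprod 2).trans (Nat.pow_le_pow_right Nat.card_pos hqp.two_le)
    omega
  refine ⟨g' * z ^ (i : ℕ), L.mul_mem g.2 (L.pow_mem hzL _), ?_⟩
  set X := fixedOf (g' * z ^ (i : ℕ)) with hX
  have hker : Nat.card (π.comp X.subtype).ker ≤ Nat.card (C i) :=
    Nat.card_le_card_of_injective (fun w => (⟨((w : X) : W), (w : X).2, by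
      have := MonoidHom.mem_ker.1 w.2
      exact this⟩ : C i)) fun a b h => by
        apply Subtype.ext; apply Subtype.ext; exact congrArg (fun c : C i => (c : W)) h
  have himg : Nat.card (π.comp X.subtype).range ≤ Nat.card (fixedOf (r g)) := by
    have hmem : ∀ w ∈ (π.comp X.subtype).range, ∃ h : w ∈ W₁, (⟨w, h⟩ : W₁) ∈ fixedOf (r g) := by
      rintro _ ⟨w, rfl⟩
      refine ⟨hπW₁ _, mem_fixedOf.2 (Subtype.ext ?_)⟩
      show g' (π (w : W)) = π (w : W)
      rw [← hπcomm]
      conv_rhs => rw [← mem_fixedOf.1 w.2]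
      rw [MulAut.mul_apply, hcomm, hπz]
    refine Nat.card_le_card_of_injective (fun w => (⟨⟨w.1, (hmem w.1 w.2).1⟩, (hmem w.1 w.2).2⟩ :
      fixedOf (r g))) fun a b h => by
        apply Subtype.ext; exact congrArg (fun c : fixedOf (r g) => ((c : W₁) : W)) h
  have hXc : Nat.card X = Nat.card (π.comp X.subtype).ker * Nat.card (π.comp X.subtype).range := by
    rw [← Subgroup.index_ker, Subgroup.card_mul_index]
  rw [hXc, mul_pow, hcardW]
  exact Nat.mul_le_mul ((Nat.pow_le_pow_left hker 2).trans hi)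
    ((Nat.pow_le_pow_left himg 2).trans hg)

end Cfsg.Agent.MetanilpotentPrim
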