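import Cfsg.Agent.Lib.MetanilpotentPrim.Restriction
import Cfsg.Agent.Lib.MetanilpotentPrim.Structure
import Cfsg.Agent.Lib.Components.Fitting

/-!
# Primitive characters of metanilpotent `{p, q}`-groups: the degree divides a class size
-/

set_option autoImplicit false
set_option linter.style.haveILetI false

namespace Cfsg.Agent.MetanilpotentPrim

open Cfsg Cfsg.Agent.Char
open scoped commutatorElement

universe u

variable {G : Type u} [Group G] [Fintype G]

theorem exists_dvd_class_of_faithful {p q : ℕ} [Fact p.Prime] [Fact q.Prime] (hpq : p ≠ q)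
    (hprimes : ∀ g : G, ∃ i j : ℕ, orderOf g = p ^ i * q ^ j)
    (hmeta : Group.IsNilpotent (G ⧸ fittingSubgroup G)) {d : ℕ}
    (ρ : Representation ℂ G (Fin d → ℂ)) (hinj : Function.Injective ρ) (χ : IrrCharacter G)
    (hρ : ρ.character = χ.1) (hprim : IsPrim χ) :
    ∃ g : G, degree χ ∣ (Subgroup.centralizer ({g} : Set G)).index := by
  classical
  have hdeg : degree χ = d := by
    have h : (ρ.character 1 : ℂ) = degree χ := by rw [hρ, apply_one_eq_degree]
    rw [ρ.char_one, Module.finrank_fin_fun] at h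
    exact_mod_cast h.symm
  haveI : NeZero d := ⟨hdeg ▸ (degree_pos χ).ne'⟩
  haveI : Nontrivial (Fin d → ℂ) := by
    haveI : Nonempty (Fin d) := ⟨0⟩
    infer_instance
  have hab : AbelianNormalCentral G := fun A hA hAc a ha => by
    haveI := hA
    exact mem_center_of_scalar ρ hinj (scalar_of_abelian ρ χ hρ hprim A hAc ha)
  -- the central character
  have hZ : ∀ z : Subgroup.center G, ∃ c : ℂ, ρ z = c • 1 := fun z =>
    scalar_of_abelian ρ χ hρ hprim (Subgroup.center G)
      (fun a ha b _ => (Subgroup.mem_center_iff.1 ha b).symm) z.2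
  choose c hc using hZ
  have hinj1 : Function.Injective fun t : ℂ => t • (1 : Module.End ℂ (Fin d → ℂ)) :=
    fun a b h => by
      have h1 := congrFun (LinearMap.congr_fun h (Pi.single 0 1)) 0
      simpa using h1
  let cHom : Subgroup.center G →* ℂ :=
    { toFun := c
      map_one' := hinj1 (by show c 1 • _ = (1 : ℂ) • _; rw [← hc, Subgroup.coe_one, map_one, one_smul])
      map_mul' := fun a b => hinj1 (by
        show c (a * b) • _ = (c a * c b) • _
        rw [← hc, Subgroup.coe_mul, map_mul, hc, hc, smul_mul_smul_comm, one_mul]) }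
  let ω := cHom.toHomUnits
  have hω : Function.Injective ω := fun a b h => by
    have h' : c a = c b := congrArg (fun t : ℂˣ => (t : ℂ)) h
    exact Subtype.ext (hinj (by rw [hc, hc, h']))
  have hnil : ∀ C : Subgroup G, C.Normal → (∀ x y : G, ⁅x, y⁆ ∈ C) →
      ∀ g : G, (∀ c ∈ C, c * g = g * c) → g ∈ Subgroup.center G := by
    intro C hC hcomm g hg
    haveI := hC
    letI : CommGroup (G ⧸ C) :=
      { (inferInstance : Group (G ⧸ C)) with
        mul_comm := fun a b => by
          induction a using QuotientGroup.induction_on with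
          | H a =>
          induction b using QuotientGroup.induction_on with
          | H b =>
            rw [← QuotientGroup.mk_mul, ← QuotientGroup.mk_mul, QuotientGroup.eq]
            simpa [commutatorElement_def, mul_assoc] using hcomm b⁻¹ a⁻¹ }
    exact mem_center_of_scalar ρ hinj
      (scalar_of_commute ρ χ hρ hprim C CommGroup.isNilpotent hg)
  -- the two cores
  set F := fittingSubgroup G with hFdef
  haveI : (pCore p G).Normal := Components.pCore_normal' p
  haveI : (pCore q G).Normal := Components.pCore_normal' q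
  have hUp : IsPGroup p (pCore p G) := Components.isPGroup_pCore' p
  have hUq : IsPGroup q (pCore q G) := Components.isPGroup_pCore' q
  have hUpq : ∀ x ∈ pCore p G, ∀ y ∈ pCore q G, Commute x y := fun x hx y hy =>
    Subgroup.commute_of_normal_of_disjoint _ _ inferInstance inferInstance
      (IsPGroup.disjoint_of_ne _ _ hpq _ _ hUp hUq) x y hx hy
  have hFle : F ≤ pCore p G ⊔ pCore q G := by
    rw [hFdef, Components.fittingSubgroup_eq_iSup_pCore]
    refine iSup_le fun l => ?_
    have hl := Nat.prime_of_mem_primeFactors l.2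
    haveI := Fact.mk hl
    obtain ⟨x, hx⟩ := exists_prime_orderOf_dvd_card' (l : ℕ) (Nat.dvd_of_mem_primeFactors l.2)
    obtain ⟨i, j, hij⟩ := hprimes x
    rw [hx] at hij
    rcases hl.dvd_mul.1 (dvd_of_eq hij) with h | h
    · rw [(Nat.prime_dvd_prime_iff_eq hl Fact.out).1 (hl.dvd_of_dvd_pow h)]; exact le_sup_left
    · rw [(Nat.prime_dvd_prime_iff_eq hl Fact.out).1 (hl.dvd_of_dvd_pow h)]; exact le_sup_right
  have hle_p : pCore p G ≤ F := Components.pCore_le_fittingSubgroup Fact.out
  have hle_q : pCore q G ≤ F := Components.pCore_le_fittingSubgroup Fact.out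
  -- per prime
  have side : ∀ (r s : ℕ) [Fact r.Prime] [Fact s.Prime], r ≠ s →
      (∀ g : G, ∃ i j : ℕ, orderOf g = r ^ i * s ^ j) →
      (∀ x ∈ pCore r G, ∀ y ∈ pCore s G, Commute x y) → F ≤ pCore r G ⊔ pCore s G →
      ∃ A : Subgroup G, A ≤ pCore r G ∧ (∀ a ∈ A, ∀ b ∈ A, a * b = b * a) ∧
        pCore r G ⊓ Subgroup.center G ≤ A ∧ ⁅pCore r G, pCore r G⁆ ≤ Subgroup.center G ∧
        ∃ y : G, (∃ j : ℕ, y ^ s ^ j = 1) ∧ ∀ x : G, (∃ i : ℕ, x ^ r ^ i = 1) → ∀ w : G,
          (w = y * x ∨ w = x * y) →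
          A.relIndex (pCore r G) ∣ (Subgroup.centralizer ({w} : Set G)).index := by
    intro r s _ _ hrs hpr hcommrs hFrs
    haveI : (pCore r G).Normal := Components.pCore_normal' r
    have hU : IsPGroup r (pCore r G) := Components.isPGroup_pCore' r
    have hclass := commutator_le_center hab (pCore r G) hU
    obtain ⟨A, hAU, hA, hZA, hidx⟩ := exists_abelian_small_index ω hω (pCore r G) hclass
    let P : Sylow r G := default
    have hFact : ∀ x ∈ F, ∀ u ∈ pCore r G, ⁅x, u⁆ ∈ Subgroup.center G := by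
      intro x hx u hu
      have hx' := hFrs hx
      rw [Subgroup.sup_eq_closure] at hx'
      refine mem_of_commutator_mem_center (fun y hy => ?_) x hx'
      rcases hy with hy | hy
      · exact hclass (Subgroup.commutator_mem_commutator hy hu)
      · rw [commutatorElement_eq_one_iff_mul_comm.2 (hcommrs u hu y hy).symm.eq]
        exact one_mem _
    haveI hS : ((P : Subgroup G) ⊔ F).Normal := by
      let P' := P.mapSurjective (QuotientGroup.mk'_surjective F)
      haveI := hmeta
      haveI : (P' : Subgroup (G ⧸ F)).Normal :=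
        Sylow.normal_of_normalizerCondition Group.normalizerCondition_of_isNilpotent P'
      have e : (P : Subgroup G) ⊔ F = (P' : Subgroup (G ⧸ F)).comap (QuotientGroup.mk' F) := by
        rw [Sylow.coe_mapSurjective, Subgroup.comap_map_eq, QuotientGroup.ker_mk']
      rw [e]
      infer_instance
    have htriv := modCenter_eq_of_closure ω hω hab (pCore r G) P F hU P.2 hFact
    have hkill : ∀ x : G, (∃ i : ℕ, x ^ r ^ i = 1) → ∀ u ∈ pCore r G,
        ⁅x, u⁆ ∈ Subgroup.center G := by
      rintro x ⟨i, hi⟩ u hu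
      have hxP : IsPGroup r (Subgroup.zpowers x) := by
        rintro ⟨_, k, rfl⟩
        refine ⟨i, Subtype.ext ?_⟩
        show (x ^ k) ^ r ^ i = 1
        rw [← zpow_natCast, ← zpow_mul, mul_comm, zpow_mul, zpow_natCast, hi, one_zpow]
      obtain ⟨R, hR⟩ := hxP.exists_le_sylow
      obtain ⟨g, hg⟩ := MulAction.exists_smul_eq G P R
      have hxR : x ∈ (R : Subgroup G) := hR (Subgroup.mem_zpowers x)
      rw [← hg, Sylow.coe_subgroup_smul, Subgroup.mem_pointwise_smul_iff_inv_smul_mem] at hxR
      have hxS : x ∈ (P : Subgroup G) ⊔ F := by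
        have h2 := hS.conj_mem _ (Subgroup.mem_sup_left (T := F) hxR) g
        simpa [MulAut.smul_def, mul_assoc] using h2
      rw [← htriv] at hu
      exact (mem_modCenter.1 hu).2 x hxS
    exact ⟨A, hAU, hA, hZA, hclass, exists_class_element (pCore r G) A hrs hU hclass hkill
      (modCenter_top_le _ hnil) hpr hidx⟩
  obtain ⟨A, hAU, hA, hZA, hclA, y, hy, hyA⟩ := side p q hpq hprimes hUpq hFle
  obtain ⟨B, hBU, hB, hZB, hclB, x, hx, hxB⟩ := side q p hpq.symm
    (fun g => by obtain ⟨i, j, h⟩ := hprimes g; exact ⟨j, i, by rw [h, mul_comm]⟩)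
    (fun a ha b hb => (hUpq b hb a ha).symm) (by rw [sup_comm]; exact hFle)
  refine ⟨y * x, ?_⟩
  have hdA := hyA x hx (y * x) (Or.inl rfl)
  have hdB := hxB y hy (y * x) (Or.inr rfl)
  have hcop : Nat.Coprime (A.relIndex (pCore p G)) (B.relIndex (pCore q G)) := by
    obtain ⟨i, hi⟩ := IsPGroup.iff_card.1 hUp
    obtain ⟨j, hj⟩ := IsPGroup.iff_card.1 hUq
    exact Nat.Coprime.coprime_dvd_left (hi ▸ Subgroup.relIndex_dvd_card _ _)
      (Nat.Coprime.coprime_dvd_right (hj ▸ Subgroup.relIndex_dvd_card _ _)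
        (((Nat.coprime_primes Fact.out Fact.out).2 hpq).pow i j))
  refine dvd_trans ?_ (hcop.mul_dvd_of_dvd_of_dvd hdA hdB)
  -- Ito inside the Fitting subgroup
  haveI := Fintype.ofFinite F
  let η : IrrCharacter F := ⟨resFun F χ.1, isIrrCharacter_resFun hprim _ F rfl hmeta⟩
  have hηd : degree η = degree χ := by
    have h1 : (η.1 1 : ℂ) = χ.1 1 := rfl
    rw [apply_one_eq_degree, apply_one_eq_degree] at h1
    exact_mod_cast h1
  set X := A ⊔ B with hX
  have hAB : ∀ a ∈ A, ∀ b ∈ B, a * b = b * a := fun a ha b hb => (hUpq a (hAU ha) b (hBU hb)).eq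
  have hXc : X ≤ Subgroup.centralizer (X : Set G) := by
    refine sup_le (Subgroup.le_centralizer_iff.1 (sup_le ?_ ?_))
      (Subgroup.le_centralizer_iff.1 (sup_le ?_ ?_))
    · exact fun a ha => Subgroup.mem_centralizer_iff.2 fun a' ha' => hA a' ha' a ha
    · exact fun b hb => Subgroup.mem_centralizer_iff.2 fun a ha => hAB a ha b hb
    · exact fun a ha => Subgroup.mem_centralizer_iff.2 fun b hb => (hAB a ha b hb).symm
    · exact fun b hb => Subgroup.mem_centralizer_iff.2 fun b' hb' => hB b' hb' b hb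
  have hXF : X ≤ F := sup_le (hAU.trans hle_p) (hBU.trans hle_q)
  have hconjgen : ∀ (U T : Subgroup G), U.Normal → T ≤ U → U ⊓ Subgroup.center G ≤ T →
      (∀ g ∈ F, ∀ u ∈ U, ⁅g, u⁆ ∈ Subgroup.center G) →
      ∀ g ∈ F, ∀ a ∈ T, g * a * g⁻¹ ∈ T := by
    intro U T hUn hTU hZT hF g hg a ha
    have e : g * a * g⁻¹ = ⁅g, a⁆ * a := by simp [commutatorElement_def, mul_assoc]
    rw [e]
    refine T.mul_mem (hZT ⟨?_, hF g hg a (hTU ha)⟩) ha
    exact U.mul_mem (hUn.conj_mem a (hTU ha) g) (U.inv_mem (hTU ha))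
  have hactp : ∀ g ∈ F, ∀ u ∈ pCore p G, ⁅g, u⁆ ∈ Subgroup.center G := by
    intro g hg u hu
    have hg' := hFle hg
    rw [Subgroup.sup_eq_closure] at hg'
    refine mem_of_commutator_mem_center (fun z hz => ?_) g hg'
    rcases hz with hz | hz
    · exact hclA (Subgroup.commutator_mem_commutator hz hu)
    · rw [commutatorElement_eq_one_iff_mul_comm.2 (hUpq u hu z hz).symm.eq]; exact one_mem _
  have hactq : ∀ g ∈ F, ∀ u ∈ pCore q G, ⁅g, u⁆ ∈ Subgroup.center G := by
    intro g hg u hu
    have hg' := hFle hg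
    rw [Subgroup.sup_eq_closure] at hg'
    refine mem_of_commutator_mem_center (fun z hz => ?_) g hg'
    rcases hz with hz | hz
    · rw [commutatorElement_eq_one_iff_mul_comm.2 (hUpq z hz u hu).eq]; exact one_mem _
    · exact hclB (Subgroup.commutator_mem_commutator hz hu)
  haveI : (X.subgroupOf F).Normal := by
    refine ⟨fun a ha g => Subgroup.mem_subgroupOf.2 ?_⟩
    have hle : X ≤ X.comap (MulAut.conj (g : G)).toMonoidHom := sup_le
      (fun a ha => Subgroup.mem_sup_left (hconjgen _ A inferInstance hAU hZA hactp g g.2 a ha))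
      (fun b hb => Subgroup.mem_sup_right (hconjgen _ B inferInstance hBU hZB hactq g g.2 b hb))
    simpa using hle (Subgroup.mem_subgroupOf.1 ha)
  have hito := degree_dvd_index_of_comm (X.subgroupOf F) (fun a ha b hb => Subtype.ext
    (Subgroup.mem_centralizer_iff.1 (hXc (Subgroup.mem_subgroupOf.1 hb)) a
      (Subgroup.mem_subgroupOf.1 ha))) η
  rw [hηd] at hito
  refine hito.trans ?_
  -- counting
  have hcardF : X.relIndex F * Nat.card X = Nat.card F := by
    rw [← Nat.card_congr (Subgroup.subgroupOfEquivOfLe hXF).toEquiv]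
    exact (X.subgroupOf F).index_mul_card
  have hsup : Nat.card (pCore p G ⊔ pCore q G : Subgroup G) ∣
      Nat.card (pCore p G) * Nat.card (pCore q G) := by
    have h1 : (pCore q G).relIndex (pCore p G ⊔ pCore q G) = (pCore q G).relIndex (pCore p G) :=
      Subgroup.relIndex_sup_right _ _
    rw [← ((pCore q G).subgroupOf (pCore p G ⊔ pCore q G)).index_mul_card,
      Nat.card_congr (Subgroup.subgroupOfEquivOfLe le_sup_right).toEquiv]
    refine mul_dvd_mul ?_ dvd_rfl
    show (pCore q G).relIndex _ ∣ _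
    rw [h1]
    exact Subgroup.relIndex_dvd_card _ _
  have hAdvd : Nat.card A * Nat.card B ∣ Nat.card X := by
    refine Nat.Coprime.mul_dvd_of_dvd_of_dvd ?_ (Subgroup.card_dvd_of_le le_sup_left)
      (Subgroup.card_dvd_of_le le_sup_right)
    obtain ⟨i, hi⟩ := IsPGroup.iff_card.1 (hUp.to_le hAU)
    obtain ⟨j, hj⟩ := IsPGroup.iff_card.1 (hUq.to_le hBU)
    rw [hi, hj]
    exact ((Nat.coprime_primes Fact.out Fact.out).2 hpq).pow i j
  have hUpA : Nat.card (pCore p G) = A.relIndex (pCore p G) * Nat.card A := by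
    rw [← Nat.card_congr (Subgroup.subgroupOfEquivOfLe hAU).toEquiv]
    exact (A.subgroupOf (pCore p G)).index_mul_card.symm
  have hUqB : Nat.card (pCore q G) = B.relIndex (pCore q G) * Nat.card B := by
    rw [← Nat.card_congr (Subgroup.subgroupOfEquivOfLe hBU).toEquiv]
    exact (B.subgroupOf (pCore q G)).index_mul_card.symm
  have h := ((mul_dvd_mul_left (X.relIndex F) hAdvd).trans (dvd_of_eq hcardF)).trans
    ((Subgroup.card_dvd_of_le hFle).trans hsup)
  rw [hUpA, hUqB, show A.relIndex (pCore p G) * Nat.card A * (B.relIndex (pCore q G) * Nat.card B) =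
    A.relIndex (pCore p G) * B.relIndex (pCore q G) * (Nat.card A * Nat.card B) by ring] at h
  exact Nat.dvd_of_mul_dvd_mul_right (Nat.mul_pos Nat.card_pos Nat.card_pos) h

end Cfsg.Agent.MetanilpotentPrim
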