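import Cfsg.Agent.Lib.Char.CliffordAbelian
import Cfsg.Agent.Lib.Char.Monomial
import Cfsg.Agent.Lib.Char.Ito
import Cfsg.Agent.Lib.Char.Product
import Cfsg.Agent.Lib.Blocks.CyclicDefect.Reps

/-!
# Primitive characters and normal subgroups with nilpotent quotient

* `primitive_conjFun_eq`: constituents of a primitive character on normal subgroups are invariant;
* `isIrrCharacter_resFun`: a primitive character stays irreducible on a normal subgroup with nilpotent
  quotient;
* `le_center_of_abelian`, `centralizer_le_center`: consequences for a faithful one.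
-/

set_option autoImplicit false
set_option linter.style.haveILetI false

namespace Cfsg.Agent.MetanilpotentPrim

open Cfsg Cfsg.Agent.Char

universe u

variable {G : Type u} [Group G] [Fintype G]

/-- Primitivity, in the wording of the statements. -/
def IsPrim (χ : IrrCharacter G) : Prop :=
  ¬ ∃ (H : Subgroup G), H ≠ ⊤ ∧ ∃ θ : ↥H → ℂ, Cfsg.IsCharacter ↥H θ ∧ Cfsg.indFun H θ = (χ : G → ℂ)

theorem primitive_conjFun_eq {χ : IrrCharacter G} (hprim : IsPrim χ) (N : Subgroup G) [N.Normal]
    [Fintype N] (θ : IrrCharacter N) (hθ : classInner (resFun N χ.1) θ.1 ≠ 0) (g : G) :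
    conjFun N θ.1 g = θ.1 := by
  obtain ⟨-, ψ, -, -, -, hind⟩ := exists_indFun_inertia N χ θ hθ
  by_contra hg
  exact hprim ⟨inertiaGroup N θ.1, fun h => hg (mem_inertiaGroup.1 (h ▸ Subgroup.mem_top g)),
    ψ.1, irr_isCharacter ψ, hind⟩

/-- An invariant constituent on a normal subgroup of prime index is the whole restriction. -/
theorem resFun_eq_of_prime_index (N : Subgroup G) [N.Normal] [Fintype N] (hN : N.index.Prime)
    (χ : IrrCharacter G) (θ : IrrCharacter N) (hinv : ∀ g, conjFun N θ.1 g = θ.1)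
    (hθ : classInner (resFun N χ.1) θ.1 ≠ 0) : resFun N χ.1 = θ.1 := by
  classical
  haveI : Fact N.index.Prime := ⟨hN⟩
  haveI : IsCyclic (G ⧸ N) := isCyclic_of_prime_card (p := N.index) (Subgroup.index_eq_card N).symm
  letI := IsCyclic.commGroup (α := G ⧸ N)
  obtain ⟨e, C, he, hind, hcard, hres⟩ := exists_common_ramification N θ hinv fun a b => mul_comm a b
  have he1 : e = 1 := by
    rw [← N.index_mul_card] at hcard
    have h : e ^ 2 * C.card = N.index := Nat.eq_of_mul_eq_mul_right Nat.card_pos hcard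
    rcases hN.eq_one_or_self_of_dvd (e ^ 2) ⟨_, h.symm⟩ with h' | h'
    · exact (Nat.pow_eq_one.1 h').resolve_right (by norm_num)
    · exact absurd (h'.symm ▸ hN) (Nat.Prime.not_prime_pow le_rfl)
  have hχ : χ ∈ C := by
    by_contra hnot
    have hcl := IsCharacter.isClassFunction (irr_isCharacter χ)
    have h := classInner_indFun N θ.1 hcl
    rw [hind, classInner_smul_left, classInner_sum_left, Finset.sum_eq_zero fun ψ hψ =>
      classInner_irr_of_ne ψ.2 χ.2 fun e => hnot (Subtype.ext e ▸ hψ), mul_zero,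
      ← conj_classInner, eq_comm, map_eq_zero] at h
    exact hθ h
  funext n
  show χ.1 n = θ.1 n
  rw [hres χ hχ n, he1, Nat.cast_one, one_mul]

/-- A central subgroup of prime order of a nilpotent quotient. -/
theorem exists_prime_step {Q : Type*} [Group Q] [Finite Q] [Group.IsNilpotent Q] [Nontrivial Q] :
    ∃ z : Subgroup Q, z.Normal ∧ (Nat.card z).Prime := by
  haveI := (Subgroup.nontrivial_iff_ne_bot _).2 (Group.IsNilpotent.center_ne_bot (G := Q))
  obtain ⟨l, hl, hdvd⟩ := Nat.exists_prime_and_dvd (n := Nat.card (Subgroup.center Q))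
    (Finite.one_lt_card).ne'
  haveI := Fact.mk hl
  obtain ⟨z, hz⟩ := exists_prime_orderOf_dvd_card' l hdvd
  refine ⟨Subgroup.zpowers (z : Q), ?_, by rw [Nat.card_zpowers, Subgroup.orderOf_coe, hz]; exact hl⟩
  refine ⟨fun x hx g => ?_⟩
  have hc : x ∈ Subgroup.center Q := Subgroup.zpowers_le.2 z.2 hx
  rwa [Subgroup.mem_center_iff.1 hc g, mul_inv_cancel_right]

/-- A primitive character is irreducible on normal subgroups with nilpotent quotient. -/
theorem isIrrCharacter_resFun {χ : IrrCharacter G} (hprim : IsPrim χ) :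
    ∀ (n : ℕ) (N : Subgroup G) [N.Normal], N.index = n → Group.IsNilpotent (G ⧸ N) →
      IsIrrCharacter N (resFun N χ.1) := by
  classical
  intro n
  induction n using Nat.strong_induction_on with
  | _ n ih =>
  intro N _ hn hnil
  rcases eq_or_ne N ⊤ with rfl | hN
  · exact IsIrrCharacter.comp_mulEquiv χ.2 Subgroup.topEquiv
  haveI := hnil
  haveI : Nontrivial (G ⧸ N) := QuotientGroup.nontrivial_iff.2 hN
  obtain ⟨Z, hZn, hZp⟩ := exists_prime_step (Q := G ⧸ N)
  set M := Z.comap (QuotientGroup.mk' N) with hM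
  haveI : M.Normal := hZn.comap _
  have hNM : N ≤ M := by
    intro x hx
    rw [hM, Subgroup.mem_comap, QuotientGroup.mk'_apply, (QuotientGroup.eq_one_iff x).2 hx]
    exact one_mem _
  have hMidx : M.index = Z.index := Subgroup.index_comap_of_surjective _ (QuotientGroup.mk'_surjective N)
  have hrel : N.relIndex M = Nat.card Z := by
    have h1 := Subgroup.relIndex_mul_index hNM
    have h2 := Z.card_mul_index
    rw [← Subgroup.index_eq_card, ← hMidx] at h2
    exact Nat.eq_of_mul_eq_mul_right (Nat.pos_of_ne_zero Subgroup.index_ne_zero_of_finite)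
      (h1.trans h2.symm)
  have hlt : M.index < n := by
    rw [← hn, ← Subgroup.relIndex_mul_index hNM, hrel]
    exact lt_mul_of_one_lt_left (Nat.pos_of_ne_zero Subgroup.index_ne_zero_of_finite) hZp.one_lt
  have hMnil : Group.IsNilpotent (G ⧸ M) := Group.nilpotent_of_surjective
    (QuotientGroup.map N M (MonoidHom.id G) hNM) (by
      intro x
      obtain ⟨x, rfl⟩ := QuotientGroup.mk_surjective x
      exact ⟨QuotientGroup.mk x, rfl⟩)
  have hη := ih _ hlt M rfl hMnil
  obtain ⟨θ, hθ⟩ := exists_constituent N χ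
  have hinv := primitive_conjFun_eq hprim N θ hθ
  -- inside `M`
  let N' := N.subgroupOf M
  haveI : N'.Normal := inferInstanceAs (N.subgroupOf M).Normal
  let E : N' ≃* N := Subgroup.subgroupOfEquivOfLe hNM
  let θ' : IrrCharacter N' := ⟨fun x => θ.1 (E x), IsIrrCharacter.comp_mulEquiv θ.2 E⟩
  have h := resFun_eq_of_prime_index N' (by rw [show N'.index = N.relIndex M from rfl, hrel]; exact hZp)
    ⟨resFun M χ.1, hη⟩ θ'
    (fun g => funext fun x => by
      show θ.1 (E (MulAut.conjNormal g x)) = θ.1 (E x)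
      rw [← congrFun (hinv (g : G)) (E x)]
      exact congrArg θ.1 (Subtype.ext rfl))
    (by
      have h0 : classInner (resFun N' (resFun M χ.1)) θ'.1 = classInner (resFun N χ.1) θ.1 := by
        rw [← classInner_comp_mulEquiv E (resFun N χ.1) θ.1]
        rfl
      rw [h0]; exact hθ)
  have : resFun N χ.1 = θ.1 := funext fun x => by
    obtain ⟨y, rfl⟩ := E.surjective x
    exact congrFun h y
  rw [this]
  exact θ.2

/-- Elements centralising a normal subgroup with nilpotent quotient act as scalars. -/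
theorem scalar_of_commute {d : ℕ} (ρ : Representation ℂ G (Fin d → ℂ)) (χ : IrrCharacter G)
    (hρ : ρ.character = χ.1) (hprim : IsPrim χ) (N : Subgroup G) [N.Normal]
    (hN : Group.IsNilpotent (G ⧸ N)) {g : G} (hg : ∀ x ∈ N, x * g = g * x) :
    ∃ c : ℂ, ρ g = c • 1 := by
  classical
  have hirr := isIrrCharacter_resFun hprim _ N rfl hN
  let σ : Representation ℂ N (Fin d → ℂ) := ρ.comp N.subtype
  have hσ : σ.IsIrreducible := by
    refine isIrreducible_of_classInner_eq_one _ ?_
    rw [show σ.character = resFun N χ.1 from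
      funext fun x => by rw [← hρ]; rfl]
    exact classInner_irr_self hirr
  haveI : IsSimpleOrder (Subrepresentation σ) := hσ
  haveI := nontrivial_of_isIrreducible σ
  have hcomm : ∀ (x : N) (v : Fin d → ℂ), ρ g (ρ x v) = ρ x (ρ g v) := fun x v => by
    rw [← Module.End.mul_apply, ← Module.End.mul_apply, ← map_mul, ← map_mul, hg x x.2]
  obtain ⟨c, hc⟩ := Module.End.exists_eigenvalue (ρ g)
  refine ⟨c, ?_⟩
  let W : Subrepresentation σ := ⟨Module.End.eigenspace (ρ g) c, fun x v hv => by
    rw [Module.End.mem_eigenspace_iff] at hv ⊢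
    show ρ g (ρ x v) = c • ρ x v
    rw [hcomm, hv, map_smul]⟩
  rcases IsSimpleOrder.eq_bot_or_eq_top W with h | h
  · exact absurd (congrArg Subrepresentation.toSubmodule h) hc
  · refine LinearMap.ext fun v => ?_
    have : v ∈ W.toSubmodule := by rw [h]; trivial
    rw [LinearMap.smul_apply, Module.End.one_apply]
    exact Module.End.mem_eigenspace_iff.1 this

theorem mem_center_of_scalar {d : ℕ} (ρ : Representation ℂ G (Fin d → ℂ))
    (hinj : Function.Injective ρ) {g : G} (h : ∃ c : ℂ, ρ g = c • 1) : g ∈ Subgroup.center G := by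
  obtain ⟨c, hc⟩ := h
  refine Subgroup.mem_center_iff.2 fun x => hinj ?_
  rw [map_mul, map_mul, hc, mul_smul_comm, smul_mul_assoc, mul_one, one_mul]

/-- A normal abelian subgroup consists of scalars. -/
theorem scalar_of_abelian {d : ℕ} (ρ : Representation ℂ G (Fin d → ℂ)) (χ : IrrCharacter G)
    (hρ : ρ.character = χ.1) (hprim : IsPrim χ) (A : Subgroup G) [A.Normal]
    (hA : ∀ a ∈ A, ∀ b ∈ A, a * b = b * a) {a : G} (ha : a ∈ A) : ∃ c : ℂ, ρ a = c • 1 := by
  classical
  haveI := Fintype.ofFinite A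
  obtain ⟨θ, hθ⟩ := exists_constituent A χ
  have h := congrFun (resFun_eq_smul_of_invariant A χ θ (primitive_conjFun_eq hprim A θ hθ) hθ)
  obtain ⟨lam, hlam⟩ := IsCharacter.exists_monoidHom (irr_isCharacter θ)
    (apply_one_of_comm (fun x y => Subtype.ext (hA x x.2 y y.2)) θ)
  refine (CharInt.norm_eq_iff_scalar ρ a).1 ?_
  rw [hρ]
  have h1 := h ⟨a, ha⟩
  have h2 := h 1
  simp only [resFun, Pi.smul_apply, smul_eq_mul, Subgroup.coe_one, ← hlam, map_one, mul_one] at h1 h2
  have hn : ‖lam ⟨a, ha⟩‖ = 1 := CharInt.norm_eq_one_of_pow_eq_one (Nat.card_pos (α := A)).ne'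
    (by rw [← map_pow, pow_card_eq_one', map_one])
  rw [h1, norm_mul, h2, hn, mul_one]

end Cfsg.Agent.MetanilpotentPrim
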